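import Groth.Agent.Lib.MTRigid29.SubgrpFlat
import Groth.Agent.Lib.MultType.Dense
import Groth.Agent.Lib.MultType.LocalKill
import Mathlib.LinearAlgebra.FreeModule.PID

/-!
# Torsion is schematically dense in groups with an open subgroup of multiplicative type
-/

set_option autoImplicit false
set_option linter.style.haveILetI false
set_option linter.unusedSectionVars false

universe u

open TensorProduct WithConv

noncomputable section

namespace Groth.Agent.TorsDense29

/-- Characters of a finitely generated group with values in an algebraically closed field have roots up to torsion. -/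
theorem exists_root {K : Type u} [Field K] [IsAlgClosed K] {M : Type u} [CommGroup M] [Group.FG M] (χ : M →* Kˣ)
    {N : ℕ} (hN : 0 < N) : ∃ (t : ℕ) (ψ : M →* Kˣ), 0 < t ∧ ψ ^ (N * t) = χ ^ t := by
  let A := Additive M
  haveI : Module.Finite ℤ A := Module.Finite.iff_addGroup_fg.2 inferInstance
  let T := Submodule.torsion ℤ A
  haveI : Module.Finite ℤ T := inferInstance
  haveI : Finite T := Module.finite_of_fg_torsion T (Submodule.torsion_isTorsion)
  let t := Nat.card T
  have ht : 0 < t := Nat.card_pos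
  let b := Module.Free.chooseBasis ℤ (A ⧸ T)
  have hroot : ∀ a : A, ∃ u : Kˣ, u ^ N = χ a.toMul := by
    intro a
    obtain ⟨z, hz⟩ := IsAlgClosed.exists_pow_nat_eq ((χ a.toMul : Kˣ) : K) hN
    have hz0 : z ≠ 0 := fun h => by
      rw [h, zero_pow hN.ne'] at hz
      exact (χ a.toMul).ne_zero hz.symm
    exact ⟨Units.mk0 z hz0, Units.ext hz⟩
  choose a ha using fun i => Submodule.Quotient.mk_surjective T (b i)
  choose u hu using fun i => hroot (a i)
  let L : (A ⧸ T) →ₗ[ℤ] Additive Kˣ := b.constr ℤ fun i => Additive.ofMul (u i)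
  let ψ : M →* Kˣ := AddMonoidHom.toMultiplicative (L.toAddMonoidHom.comp T.mkQ.toAddMonoidHom)
  refine ⟨t, ψ, ht, ?_⟩
  let χA : A →ₗ[ℤ] Additive Kˣ := (MonoidHom.toAdditive χ).toIntLinearMap
  have hdef : ∀ x : A, N • L (T.mkQ x) - χA x = (N • (L.comp T.mkQ) - χA) x := fun x => rfl
  -- the discrepancy lands in the torsion
  have hdisc : ∀ x : A, t • (N • L (T.mkQ x)) = t • χA x := by
    intro x
    obtain ⟨c, hc⟩ : ∃ c : A, c = ∑ i, b.repr (T.mkQ x) i • a i := ⟨_, rfl⟩
    have hcx : x - c ∈ T := by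
      rw [← Submodule.Quotient.mk_eq_zero, Submodule.Quotient.mk_sub, hc, ← Submodule.mkQ_apply,
        ← Submodule.mkQ_apply, map_sum]
      simp only [map_zsmul, Submodule.mkQ_apply, ha, Module.Basis.sum_repr, sub_self]
    have h1 : N • L (T.mkQ x) = χA c := by
      rw [hc, map_sum]
      conv_lhs => rw [← b.sum_repr (T.mkQ x), map_sum, ← Finset.sum_nsmul]
      refine Finset.sum_congr rfl fun i _ => ?_
      rw [map_zsmul, map_zsmul,
        show ∀ (r : ℤ) (y : Additive Kˣ), N • (r • y) = r • (N • y) from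
          fun r y => (map_nsmul (zsmulAddGroupHom r) N y).symm, show L (b i) = Additive.ofMul (u i) from b.constr_basis ℤ _ i,
        ← ofMul_pow, hu]
      rfl
    have h2 : t • (x - c) = 0 := by
      have := congrArg (Subtype.val) (card_nsmul_eq_zero' (x := (⟨x - c, hcx⟩ : T)))
      exact this
    have h3 := congrArg χA h2
    rw [map_nsmul, map_sub, map_zero, nsmul_sub, sub_eq_zero] at h3
    rw [h1]
    exact h3.symm
  refine MonoidHom.ext fun m => Additive.ofMul.injective ?_
  rw [MonoidHom.pow_apply, MonoidHom.pow_apply, ofMul_pow, ofMul_pow, mul_comm, mul_nsmul']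
  exact hdisc (Additive.ofMul m)

section Translate

variable {k : Type u} [Field k] {C : Type u} [CommRing C] [HopfAlgebra k C] [Coalgebra.IsCocomm k C]
  {K : Type u} [Field K] [Algebra k K]

/-- Translation by a point, on functions. -/
def tr (x : WithConv (C →ₐ[k] K)) : WithConv (C →ₐ[k] K ⊗[k] C) :=
  toConv ((Algebra.TensorProduct.includeLeft : K →ₐ[k] K ⊗[k] C).comp x.ofConv) *
    toConv Algebra.TensorProduct.includeRight

/-- Translation by a point, linearly extended. -/
def TR (x : WithConv (C →ₐ[k] K)) : K ⊗[k] C →ₐ[K] K ⊗[k] C :=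
  Algebra.TensorProduct.lift (Algebra.ofId K (K ⊗[k] C)) (tr x).ofConv (fun _ _ => Commute.all _ _)

theorem TR_one_tmul (x : WithConv (C →ₐ[k] K)) (c : C) : TR x ((1 : K) ⊗ₜ[k] c) = (tr x).ofConv c := by
  simp [TR, ← Algebra.TensorProduct.one_def]

theorem comp_mul {X Y : Type u} [CommRing X] [CommRing Y] [Algebra k X] [Algebra k Y] (h : X →ₐ[k] Y)
    (f g : WithConv (C →ₐ[k] X)) :
    toConv (h.comp (f * g).ofConv) = toConv (h.comp f.ofConv) * toConv (h.comp g.ofConv) :=
  ofConv_injective (AlgHom.comp_convMul_distrib h f g)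

theorem TR_TR (x y : WithConv (C →ₐ[k] K)) (c : C) : TR y ((tr x).ofConv c) = (tr (x * y)).ofConv c := by
  have h : toConv (((TR y).restrictScalars k).comp (tr x).ofConv) = tr (x * y) := by
    simp only [tr, comp_mul]
    rw [show toConv (((TR y).restrictScalars k).comp
        (Algebra.TensorProduct.includeRight : C →ₐ[k] K ⊗[k] C)) = tr y from
      ofConv_injective (AlgHom.ext fun c => TR_one_tmul y c)]
    simp only [ofConv_toConv, tr]
    rw [show ((TR y).restrictScalars k).comp ((Algebra.TensorProduct.includeLeft : K →ₐ[k] K ⊗[k] C).comp x.ofConv) =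
      (Algebra.TensorProduct.includeLeft : K →ₐ[k] K ⊗[k] C).comp x.ofConv from
        AlgHom.ext fun c => (TR y).commutes (x.ofConv c), mul_assoc]
  exact DFunLike.congr_fun (congrArg ofConv h) c

theorem TR_inv (x : WithConv (C →ₐ[k] K)) (z : K ⊗[k] C) : TR x⁻¹ (TR x z) = z := by
  have h : (TR x⁻¹).comp (TR x) = AlgHom.id K _ := by
    refine Algebra.TensorProduct.ext' fun l c => ?_
    rw [show l ⊗ₜ[k] c = l • ((1 : K) ⊗ₜ[k] c) by rw [TensorProduct.smul_tmul', smul_eq_mul, mul_one],
      map_smul, map_smul, AlgHom.comp_apply, TR_one_tmul, TR_TR, mul_inv_cancel, AlgHom.id_apply]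
    refine congrArg (l • ·) ?_
    have h1 : tr (1 : WithConv (C →ₐ[k] K)) = toConv Algebra.TensorProduct.includeRight := by
      rw [tr]
      refine (congrArg (· * _) ?_).trans (one_mul _)
      refine ofConv_injective (AlgHom.ext fun c => ?_)
      exact (Algebra.TensorProduct.includeLeft : K →ₐ[k] K ⊗[k] C).commutes (Coalgebra.counit c)
    rw [h1]
    rfl
  exact DFunLike.congr_fun h z

/-- The idempotent of the translate of the open subgroup. -/
def eps (e : C) (x : WithConv (C →ₐ[k] K)) : K ⊗[k] C := (tr x⁻¹).ofConv e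

theorem eval_eps (e : C) (x : WithConv (C →ₐ[k] K)) (φ : K ⊗[k] C →ₐ[K] K) :
    φ (eps e x) = (x⁻¹ * toConv ((φ.restrictScalars k).comp Algebra.TensorProduct.includeRight)).ofConv e := by
  have h : toConv ((φ.restrictScalars k).comp (tr x⁻¹).ofConv) =
      x⁻¹ * toConv ((φ.restrictScalars k).comp Algebra.TensorProduct.includeRight) := by
    rw [tr, comp_mul]
    refine congrArg (· * _) (ofConv_injective (AlgHom.ext fun c => ?_))
    exact φ.commutes ((x⁻¹).ofConv c)
  exact DFunLike.congr_fun (congrArg ofConv h) e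

/-- The translates by a set of representatives cover. -/
theorem span_eq_top [IsAlgClosed K] [Algebra.FiniteType k C] (e : C) (X : Set (WithConv (C →ₐ[k] K)))
    (hX : ∀ y : WithConv (C →ₐ[k] K), ∃ x ∈ X, (x⁻¹ * y).ofConv e = 0) :
    Ideal.span ((fun x => 1 - eps e x) '' X) = ⊤ := by
  by_contra hne
  obtain ⟨m, hm, hle⟩ := Ideal.exists_le_maximal _ hne
  haveI := hm
  letI := Ideal.Quotient.field m
  haveI : Algebra.FiniteType K ((K ⊗[k] C) ⧸ m) :=
    Algebra.FiniteType.of_surjective (Ideal.Quotient.mkₐ K m) Ideal.Quotient.mk_surjective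
  haveI : Module.Finite K ((K ⊗[k] C) ⧸ m) := finite_of_finite_type_of_isJacobsonRing K _
  have hb : Function.Bijective (algebraMap K ((K ⊗[k] C) ⧸ m)) := IsAlgClosed.algebraMap_bijective_of_isIntegral
  let φ : K ⊗[k] C →ₐ[K] K := (AlgEquiv.ofBijective (Algebra.ofId K _) hb).symm.toAlgHom.comp (Ideal.Quotient.mkₐ K m)
  obtain ⟨x, hx, hx0⟩ := hX (toConv ((φ.restrictScalars k).comp Algebra.TensorProduct.includeRight))
  have h1 : φ (1 - eps e x) = 1 := by rw [map_sub, map_one, eval_eps, hx0, sub_zero]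
  have h2 : φ (1 - eps e x) = 0 := by
    show (AlgEquiv.ofBijective (Algebra.ofId K _) hb).symm (Ideal.Quotient.mk m _) = 0
    rw [Ideal.Quotient.eq_zero_iff_mem.2 (hle (Ideal.subset_span ⟨x, hx, rfl⟩)), map_zero]
  exact one_ne_zero (h1.symm.trans h2)

/-- Functions vanishing on a translate of the open subgroup are multiples of its idempotent. -/
theorem sub_eps_mul_eq_zero (e : C) (he : IsIdempotentElem e) (x : WithConv (C →ₐ[k] K)) (z : K ⊗[k] C)
    (hz : Algebra.TensorProduct.map (AlgHom.id K K) (Ideal.Quotient.mkₐ k (Ideal.span {e})) (TR x z) = 0) :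
    (1 - eps e x) * z = 0 := by
  have h1 : TR x z ∈ Ideal.span {(1 : K) ⊗ₜ[k] e} := by
    have h := Algebra.TensorProduct.lTensor_ker (A := K) (Ideal.Quotient.mkₐ k (Ideal.span {e}))
      Ideal.Quotient.mk_surjective
    rw [show RingHom.ker (Ideal.Quotient.mkₐ k (Ideal.span {e})) = Ideal.span {e} from Ideal.mk_ker,
      Ideal.map_span, Set.image_singleton] at h
    exact h.le hz
  obtain ⟨d, hd⟩ := Ideal.mem_span_singleton'.1 h1
  have h2 : z = TR x⁻¹ d * eps e x := by
    rw [← TR_inv x z, ← hd, map_mul, TR_one_tmul]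
    rfl
  rw [h2, sub_mul, one_mul, mul_left_comm, show eps e x * eps e x = eps e x from by
    rw [eps, ← map_mul, he.eq], sub_self]

end Translate

theorem torsion_mul_le' {R : Type u} [CommRing R] {A : Type u} [CommRing A] [HopfAlgebra R A] (n q : ℕ) :
    SGA3b.torsionIdeal R A (n * q) ≤ SGA3b.torsionIdeal R A n := by
  refine Ideal.map_le_iff_le_comap.2 fun x hx => ?_
  show SGA3b.powConv R A (n * q) x ∈ SGA3b.torsionIdeal R A n
  rw [← MTSub29.powConv_powConv]
  refine Ideal.mem_map_of_mem _ ?_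
  show Bialgebra.counitAlgHom R A _ = 0
  exact (MTSub29.counit_powConv q x).trans hx

/-- Torsion is schematically dense in a commutative group with an open subgroup of multiplicative type. -/
theorem iInf_torsionIdeal_eq_bot {k : Type u} [Field k] {C : Type u} [CommRing C] [HopfAlgebra k C]
    [Coalgebra.IsCocomm k C] (hft : Algebra.FiniteType k C) (e : C) (he : IsIdempotentElem e)
    [(Ideal.span {e}).IsHopfIdeal k] (hG : SGA3b.IsMultType k (C ⧸ Ideal.span {e})) (a : C) :
    ⨅ n : {n : ℕ // 0 < n}, Ideal.map (algebraMap C (Localization.Away a)) (SGA3b.torsionIdeal k C n.1) = ⊥ := by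
  classical
  haveI := hft
  let K := AlgebraicClosure k
  let B := C ⧸ Ideal.span {e}
  let mk : C →ₐc[k] B := Bialgebra.Quotient.mkBialgHom (R := k) (Ideal.span {e})
  haveI : Algebra.FiniteType k B := hft.of_surjective (Ideal.Quotient.mkₐ k _) Ideal.Quotient.mk_surjective
  obtain ⟨M, _, ⟨E⟩⟩ := MTSub29.isDiag_algClosed (R := k) (A := B) inferInstance hG K
  haveI := MultTypeLib.group_fg_of_diag (R := k) (A := B) inferInstance E
  let P := WithConv (C →ₐ[k] K)
  let j : WithConv (B →ₐ[k] K) →* P :=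
    { toFun := fun g => toConv (g.ofConv.comp (mk : C →ₐ[k] B))
      map_one' := ofConv_injective (AlgHom.ext fun c => by
        show algebraMap k K (Coalgebra.counit (mk c)) = algebraMap k K (Coalgebra.counit c)
        rw [CoalgHomClass.counit_comp_apply mk])
      map_mul' := fun f g => ofConv_injective (AlgHom.convMul_comp_bialgHom_distrib f g mk) }
  have hj : ∀ y : P, y.ofConv e = 0 → y ∈ j.range := fun y hy =>
    ⟨toConv (Ideal.Quotient.liftₐ (Ideal.span {e}) y.ofConv
      (fun c hc => by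
        obtain ⟨d, rfl⟩ := Ideal.mem_span_singleton'.1 hc
        rw [map_mul, hy, mul_zero])), ofConv_injective (AlgHom.ext fun c => rfl)⟩
  have hje : ∀ g, (j g).ofConv e = 0 := fun g => by
    show g.ofConv (Ideal.Quotient.mk (Ideal.span {e}) e) = 0
    rw [Ideal.Quotient.eq_zero_iff_mem.2 (Ideal.mem_span_singleton_self e), map_zero]
  -- finitely many cosets
  obtain ⟨s, hsX, hs⟩ := Submodule.mem_span_finite_of_mem_span
    ((Ideal.eq_top_iff_one _).1 (span_eq_top (K := K) e Set.univ fun y => ⟨y, Set.mem_univ _, by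
      rw [inv_mul_cancel]
      refine (AlgHom.convOne_apply (R := k) (A := K) e).trans ?_
      rw [show Coalgebra.counit (R := k) e = 0 from
        MTSub29.le_aug (R := k) (Ideal.span {e}) (Ideal.mem_span_singleton_self e), map_zero]⟩))
  have hfin : Finite (P ⧸ j.range) := by
    choose f hf using fun w : s => hsX w.2
    refine Finite.of_surjective (fun w : s => QuotientGroup.mk' j.range (f w)) fun q => ?_
    obtain ⟨y, rfl⟩ := QuotientGroup.mk'_surjective j.range q
    let φ : K ⊗[k] C →ₐ[K] K := Algebra.TensorProduct.lift (AlgHom.id K K) y.ofConv (fun _ _ => Commute.all _ _)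
    have hφ : toConv ((φ.restrictScalars k).comp Algebra.TensorProduct.includeRight) = y :=
      ofConv_injective (AlgHom.ext fun c => by simp [φ])
    obtain ⟨w, hw⟩ : ∃ w : s, φ w.1 ≠ 0 := by
      by_contra hall
      push Not at hall
      have h0 : (Ideal.span (s : Set (K ⊗[k] C)) : Ideal (K ⊗[k] C)) ≤ RingHom.ker φ :=
        Ideal.span_le.2 fun w hw => hall ⟨w, hw⟩
      exact one_ne_zero ((map_one φ).symm.trans (h0 hs))
    refine ⟨w, ((QuotientGroup.eq).2 (hj _ ?_))⟩
    have hw' := hw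
    rw [← (hf w).2, map_sub, map_one, eval_eps, hφ] at hw'
    by_contra hne
    refine hw' (sub_eq_zero.2 ?_)
    have h1 : ((f w)⁻¹ * y).ofConv e * ((f w)⁻¹ * y).ofConv e = ((f w)⁻¹ * y).ofConv e := by
      rw [← map_mul, he.eq]
    exact ((mul_eq_right₀ hne).1 h1).symm
  let N := Nat.card (P ⧸ j.range)
  have hN : 0 < N := Nat.card_pos
  -- torsion representatives
  have hrep : ∀ y : P, ∃ x ∈ {x : P | ∃ m : ℕ, 0 < m ∧ x ^ m = 1}, (x⁻¹ * y).ofConv e = 0 := by
    intro y
    obtain ⟨g, hg⟩ : y ^ N ∈ j.range := by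
      rw [← QuotientGroup.eq_one_iff, QuotientGroup.mk_pow]
      exact pow_card_eq_one'
    obtain ⟨χ, rfl⟩ := MTSub29.pt_surjective E g
    obtain ⟨t, ψ, ht, hψ⟩ := exists_root χ hN
    refine ⟨y * (j (MTSub29.pt E ψ))⁻¹, ⟨N * t, Nat.mul_pos hN ht, ?_⟩, ?_⟩
    · rw [mul_pow, inv_pow, ← map_pow, ← MTSub29.pt_pow, hψ, MTSub29.pt_pow, map_pow, hg, ← pow_mul,
        mul_inv_cancel]
    · rw [mul_inv_rev, inv_inv, inv_mul_cancel_right]
      exact hje _
  obtain ⟨s', hsX', hs'⟩ := Submodule.mem_span_finite_of_mem_span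
    ((Ideal.eq_top_iff_one _).1 (span_eq_top (K := K) e _ hrep))
  choose f hf hfe using fun w : s' => hsX' w.2
  let GK := K ⊗[k] B
  let Q : K ⊗[k] C →ₐ[K] GK := Algebra.TensorProduct.map (AlgHom.id K K) (Ideal.Quotient.mkₐ k (Ideal.span {e}))
  rw [eq_bot_iff]
  intro z hz
  rw [Submodule.mem_iInf] at hz
  obtain ⟨b, ⟨_, i, rfl⟩, rfl⟩ := IsLocalization.exists_mk'_eq (Submonoid.powers a) z
  have hb : ∀ n : ℕ, 0 < n → ∃ l : ℕ, a ^ l * b ∈ SGA3b.torsionIdeal k C n := by
    intro n hn
    obtain ⟨_, ⟨l, rfl⟩, hl⟩ := (IsLocalization.mk'_mem_map_algebraMap_iff (Submonoid.powers a) _ _ _ _).1 (hz ⟨n, hn⟩)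
    exact ⟨l, hl⟩
  have key : ∀ w : s', ∃ l : ℕ, (1 - eps e (f w)) * ((1 : K) ⊗ₜ[k] (a ^ l * b)) = 0 := by
    intro w
    obtain ⟨m, hm, hxm⟩ := hf w
    let Z : C →ₐ[k] GK := (Q.restrictScalars k).comp (tr (f w)).ofConv
    have hmap : ∀ n : ℕ, ∀ c ∈ SGA3b.torsionIdeal k C (n * m), Z c ∈ SGA3b.torsionIdeal K GK n := by
      intro n c hc
      let π := ((Ideal.Quotient.mkₐ K (SGA3b.torsionIdeal K GK n)).restrictScalars k)
      let g₀ : WithConv (C →ₐ[k] GK ⧸ SGA3b.torsionIdeal K GK n) :=
        toConv (π.comp ((Algebra.TensorProduct.includeRight : B →ₐ[k] GK).comp (mk : C →ₐ[k] B)))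
      let x₀ : WithConv (C →ₐ[k] GK ⧸ SGA3b.torsionIdeal K GK n) :=
        toConv (((Algebra.ofId K (GK ⧸ SGA3b.torsionIdeal K GK n)).restrictScalars k).comp (f w).ofConv)
      have hg0 : g₀ ^ n = 1 := by
        refine (MTSub29.kills_torsion_iff g₀ n).1 fun c hc => ?_
        suffices SGA3b.torsionIdeal k C n ≤ RingHom.ker g₀.ofConv from this hc
        refine Ideal.map_le_iff_le_comap.2 fun d hd => ?_
        show Ideal.Quotient.mk (SGA3b.torsionIdeal K GK n) ((1 : K) ⊗ₜ[k] mk (SGA3b.powConv k C n d)) = 0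
        rw [Ideal.Quotient.eq_zero_iff_mem, ← MTRigid29.SubgrpFlat.powConv_comm]
        have h := Ideal.mem_map_of_mem (SGA3b.powConv K GK n) (x := (1 : K) ⊗ₜ[k] mk d)
          (I := RingHom.ker (Bialgebra.counitAlgHom K GK)) (by
            show Coalgebra.counit (R := K) ((1 : K) ⊗ₜ[k] mk d) = 0
            rw [TensorProduct.counit_tmul, CoalgHomClass.counit_comp_apply mk,
              show Coalgebra.counit (R := k) d = 0 from hd, zero_smul])
        rw [MultTypeLib.powConv_baseChange] at h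
        rw [SGA3b.torsionIdeal]
        simpa using h
      have hx0 : x₀ ^ m = 1 := by
        have hh : ∀ q : ℕ, x₀ ^ q = toConv (((Algebra.ofId K (GK ⧸ SGA3b.torsionIdeal K GK n)).restrictScalars k).comp
            ((f w) ^ q).ofConv) := by
          intro q
          induction q with
          | zero =>
            rw [pow_zero, pow_zero]
            refine ofConv_injective (AlgHom.ext fun c => ?_)
            show algebraMap k _ (Coalgebra.counit c) = algebraMap K _ (algebraMap k K (Coalgebra.counit c))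
            rw [← IsScalarTower.algebraMap_apply]
          | succ q ih => rw [pow_succ, pow_succ, ih, comp_mul]
        rw [hh, hxm]
        refine ofConv_injective (AlgHom.ext fun c => ?_)
        show algebraMap K _ (algebraMap k K (Coalgebra.counit c)) = algebraMap k _ (Coalgebra.counit c)
        rw [← IsScalarTower.algebraMap_apply]
      have hdec : toConv (π.comp Z) = x₀ * g₀ := by
        simp only [Z, tr, ← AlgHom.comp_assoc, comp_mul]
        refine congrArg₂ (· * ·) (ofConv_injective (AlgHom.ext fun c => ?_)) (ofConv_injective (AlgHom.ext fun c => ?_))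
        · show Ideal.Quotient.mk _ (Q ((f w).ofConv c ⊗ₜ[k] (1 : C))) = _
          simp [Q, x₀, GK, Algebra.TensorProduct.algebraMap_apply]
          rfl
        · show Ideal.Quotient.mk _ (Q ((1 : K) ⊗ₜ[k] c)) = Ideal.Quotient.mk _ ((1 : K) ⊗ₜ[k] mk c)
          simp [Q]
          rfl
      have h1 : (toConv (π.comp Z)) ^ (n * m) = 1 := by
        rw [hdec, mul_pow]
        nth_rewrite 1 [mul_comm n m]
        rw [pow_mul, pow_mul, hx0, hg0, one_pow, one_pow, mul_one]
      have h2 := (MTSub29.kills_torsion_iff _ _).2 h1 c hc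
      exact Ideal.Quotient.eq_zero_iff_mem.1 h2
    have hz0 : algebraMap GK (Localization.Away (Z a)) (Z b) = 0 := by
      rw [← Ideal.mem_bot, ← MultTypeLib.iInf_torsionIdeal_eq_bot (R := K) (A := GK) inferInstance
        (MultTypeLib.isMultType_baseChange K hG) (Z a), Submodule.mem_iInf]
      intro n
      obtain ⟨l, hl⟩ := hb (n.1 * m) (Nat.mul_pos n.2 hm)
      have h2 := hmap n.1 _ hl
      rw [map_mul, map_pow] at h2
      exact (IsLocalization.algebraMap_mem_map_algebraMap_iff (Submonoid.powers (Z a)) _ _ _).2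
        ⟨_, ⟨l, rfl⟩, h2⟩
    obtain ⟨⟨_, l, rfl⟩, hl⟩ := (IsLocalization.map_eq_zero_iff (Submonoid.powers (Z a)) _ _).1 hz0
    refine ⟨l, sub_eps_mul_eq_zero e he (f w) _ ?_⟩
    rw [TR_one_tmul]
    show Z (a ^ l * b) = 0
    rw [map_mul, map_pow]
    exact hl
  choose l hl using key
  let L := Finset.univ.sup l
  have hall : (Ideal.span (s' : Set (K ⊗[k] C)) : Ideal (K ⊗[k] C)) ≤
      LinearMap.ker (LinearMap.mulRight (K ⊗[k] C) ((1 : K) ⊗ₜ[k] (a ^ L * b))) := by
    refine Ideal.span_le.2 fun v hv => ?_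
    show v * ((1 : K) ⊗ₜ[k] (a ^ L * b)) = 0
    obtain ⟨d, hd⟩ := Nat.le.dest (Finset.le_sup (f := l) (Finset.mem_univ (⟨v, hv⟩ : s')))
    have hfe' : 1 - eps e (f ⟨v, hv⟩) = v := hfe ⟨v, hv⟩
    have h3 := hl ⟨v, hv⟩
    rw [hfe'] at h3
    rw [show L = l ⟨v, hv⟩ + d from hd.symm, pow_add, mul_assoc, mul_left_comm, ← one_mul (1 : K),
      ← Algebra.TensorProduct.tmul_mul_tmul, ← mul_assoc, mul_comm v, mul_assoc, h3, mul_zero]
  have h0 : (1 : K) ⊗ₜ[k] (a ^ L * b) = 0 := by
    have := hall hs'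
    simpa using this
  have hab : a ^ L * b = 0 :=
    Module.FaithfullyFlat.tensorProduct_mk_injective (A := k) (B := K) C (by simpa using h0)
  rw [Submodule.mem_bot, IsLocalization.mk'_eq_zero_iff]
  exact ⟨⟨_, L, rfl⟩, hab⟩

end Groth.Agent.TorsDense29
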